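import Mathlib
import Cfsg.Agent.HallHigmanB.Irreducible

/-!
Irreducibility of the restriction to a class-two group of a representation extended by an operator of
prime power order, in any characteristic prime to the order of the group.
-/

set_option autoImplicit false

open Module
open scoped commutatorElement

namespace CfsgLib.FixedHalf

open CfsgLib.HallHigmanB

universe u v w

variable {k : Type w} [Field k] {V : Type v} [AddCommGroup V] [Module k V] {S : Type u} [Group S]
  [IsAlgClosed k] [FiniteDimensional k V] [Nontrivial V] [Finite S]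

/-- A representation irreducible together with a twisting operator is irreducible. -/
theorem simple_of_twist {p : ℕ} [hp : Fact p.Prime] (hSk : (Nat.card S : k) ≠ 0)
    (L : S →* Module.End k V) (hinj : Function.Injective L)
    (hcomm : ∀ s t : S, ⁅s, t⁆ ∈ Subgroup.center S)
    (hscal : ∀ z ∈ Subgroup.center S, ∃ a : k, L z = a • 1)
    (σ : MulAut S) (n : ℕ) (hσ : σ ^ (p ^ n) = 1) (T : Module.End k V) (hT : T ^ (p ^ n) = 1)
    (hTL : ∀ s, T * L s = L (σ s) * T)
    (hsimp : ∀ U : Submodule k V, U.map T ≤ U → (∀ s, U.map (L s) ≤ U) → U = ⊥ ∨ U = ⊤) :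
    ∀ U : Submodule k V, (∀ s, U.map (L s) ≤ U) → U = ⊥ ∨ U = ⊤ := by
  classical
  letI : Fintype S := Fintype.ofFinite S
  set Z := Subgroup.center S with hZ
  set P := p ^ n with hP
  have hP0 : 0 < P := pow_pos hp.out.pos n
  have hσP : ∀ s : S, σ ((σ ^ (P - 1)) s) = s := fun s => by
    rw [← MulAut.mul_apply, ← pow_succ', Nat.sub_add_cancel hP0, hσ, MulAut.one_apply]
  have hTinv : T * T ^ (P - 1) = 1 := by rw [← pow_succ', Nat.sub_add_cancel hP0, hT]
  have hTinv' : T ^ (P - 1) * T = 1 := by rw [← pow_succ, Nat.sub_add_cancel hP0, hT]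
  -- a minimal invariant subspace
  obtain ⟨U, ⟨hU0, hUL⟩, hUmin⟩ := (wellFounded_lt (α := Submodule k V)).has_min
    {U | U ≠ ⊥ ∧ ∀ s, U.map (L s) ≤ U} ⟨⊤, top_ne_bot, fun _ => le_top⟩
  have hUmin' : ∀ W : Submodule k V, W ≤ U → (∀ s, W.map (L s) ≤ W) → W = ⊥ ∨ W = U := by
    intro W hW hWL
    by_contra h
    push Not at h
    exact hUmin W ⟨h.1, hWL⟩ (lt_of_le_of_ne hW h.2)
  set U' := U.map T with hU'
  have hU'L : ∀ s, U'.map (L s) ≤ U' := by
    rintro s _ ⟨_, ⟨u, hu, rfl⟩, rfl⟩
    refine ⟨L ((σ ^ (P - 1)) s) u, hUL _ ⟨u, hu, rfl⟩, ?_⟩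
    rw [← Module.End.mul_apply, hTL, hσP, Module.End.mul_apply]
  -- an intertwiner
  have hsmul_inj : ∀ a b : k, a • (1 : Module.End k V) = b • 1 → a = b := fun a b h => by
    obtain ⟨x, hx⟩ := exists_ne (0 : V)
    exact smul_left_injective k hx (by simpa using LinearMap.congr_fun h x)
  have hinter : ∃ F : Module.End k V, (∀ s, L s * F = F * L s) ∧ (∀ u, F u ∈ U') ∧
      ∃ u ∈ U, F u ≠ 0 := by
    obtain ⟨u, hu, hu0⟩ := U.ne_bot_iff.1 hU0
    obtain ⟨φ, hφ⟩ : ∃ φ : V →ₗ[k] k, φ u ≠ 0 := Module.Projective.exists_dual_ne_zero k hu0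
    let A : Module.End k V := ∑ s : S, φ (L s⁻¹ u) • L s
    by_cases hA : ∀ u' ∈ U', A u' = 0
    swap
    · push Not at hA
      obtain ⟨u', hu', hAu⟩ := hA
      let X : Module.End k V := φ.smulRight u'
      refine ⟨∑ s : S, L s * X * L s⁻¹, fun t => ?_, fun v => ?_, u, hu, ?_⟩
      · rw [Finset.mul_sum, Finset.sum_mul,
          ← Equiv.sum_comp (Equiv.mulLeft t) (fun s => L s * X * L s⁻¹ * L t)]
        refine Finset.sum_congr rfl fun s _ => ?_
        rw [Equiv.coe_mulLeft, mul_inv_rev, map_mul, map_mul]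
        simp only [mul_assoc, apply_inv_mul_apply, mul_one]
      · rw [LinearMap.sum_apply]
        refine Submodule.sum_mem _ fun s _ => ?_
        simp only [Module.End.mul_apply, X, LinearMap.smulRight_apply, map_smul]
        exact Submodule.smul_mem _ _ (hU'L s ⟨u', hu', rfl⟩)
      · rw [LinearMap.sum_apply]
        simp only [Module.End.mul_apply, X, LinearMap.smulRight_apply, map_smul]
        simpa [A] using hAu
    exfalso
    -- average over conjugation
    have hB : ∀ u' ∈ U', (∑ t : S, L t * A * L t⁻¹) u' = 0 := by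
      intro u' hu'
      rw [LinearMap.sum_apply]
      refine Finset.sum_eq_zero fun t _ => ?_
      rw [Module.End.mul_apply, Module.End.mul_apply, hA _ (hU'L t⁻¹ ⟨u', hu', rfl⟩), map_zero]
    have hconj : ∀ s, (∑ t : S, L t * L s * L t⁻¹) = if s ∈ Z then (Nat.card S : k) • L s else 0 := by
      intro s
      split_ifs with hs
      · have h1 : ∀ t, L t * L s * L t⁻¹ = L s := fun t => by
          rw [← map_mul, ← map_mul, Subgroup.mem_center_iff.1 hs t, mul_inv_cancel_right]
        simp only [h1, Finset.sum_const, Finset.card_univ, Nat.card_eq_fintype_card, Nat.cast_smul_eq_nsmul]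
      · have h1 : ∀ t, ∃ a : kˣ, L ⁅t, s⁆ = (a : k) • 1 := fun t => by
          obtain ⟨a, ha⟩ := hscal _ (hcomm t s)
          refine ⟨Units.mk0 a fun h0 => ?_, ha⟩
          have h2 := apply_mul_apply_inv L ⁅t, s⁆
          rw [ha, h0, zero_smul, zero_mul] at h2
          exact zero_ne_one h2
        choose g₀ hg₀ using h1
        let g : S →* kˣ := MonoidHom.mk' g₀ fun t t' => Units.ext (hsmul_inj _ _ (by
          rw [← hg₀, show ⁅t * t', s⁆ = ⁅t', s⁆ * ⁅t, s⁆ by
              calc ⁅t * t', s⁆ = t * ⁅t', s⁆ * t⁻¹ * ⁅t, s⁆ := by simp only [commutatorElement_def]; group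
                _ = _ := by rw [Subgroup.mem_center_iff.1 (hcomm t' s) t, mul_inv_cancel_right],
            map_mul, hg₀, hg₀, smul_mul_assoc, one_mul, smul_smul, Units.val_mul, mul_comm]))
        have hg : g ≠ 1 := fun h => hs (Subgroup.mem_center_iff.2 fun t => by
          refine commutatorElement_eq_one_iff_mul_comm.1 (hinj ?_)
          rw [hg₀, show g₀ t = 1 from DFunLike.congr_fun h t, Units.val_one, one_smul, map_one])
        have h3 : ∀ t, L t * L s * L t⁻¹ = (g t : k) • L s := fun t => by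
          rw [← map_mul, ← map_mul, show t * s * t⁻¹ = ⁅t, s⁆ * s by simp [commutatorElement_def, mul_assoc],
            map_mul, hg₀, smul_mul_assoc, one_mul]
          rfl
        simp only [h3, ← Finset.sum_smul, sum_char_eq_zero hg, zero_smul]
    have hsum : (∑ t : S, L t * A * L t⁻¹) = ((Nat.card Z : k) * (Nat.card S : k) * φ u) • 1 := by
      simp only [A, Finset.mul_sum, Finset.sum_mul, mul_smul_comm, smul_mul_assoc]
      rw [Finset.sum_comm]
      simp only [← Finset.smul_sum, hconj, smul_ite, smul_zero]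
      rw [← Finset.sum_filter]
      have h1 : ∀ z ∈ Finset.univ.filter (· ∈ Z),
          φ (L z⁻¹ u) • (Nat.card S : k) • L z = ((Nat.card S : k) * φ u) • (1 : Module.End k V) := by
        intro z hz
        obtain ⟨a, ha⟩ := hscal z (Finset.mem_filter.1 hz).2
        obtain ⟨b, hb⟩ := hscal z⁻¹ (inv_mem (Finset.mem_filter.1 hz).2)
        have hab : a * b = 1 := hsmul_inj _ _ (by
          have h9 := apply_mul_apply_inv L z
          rw [ha, hb, smul_mul_assoc, one_mul, smul_smul] at h9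
          rw [one_smul]
          exact h9)
        rw [ha, hb, LinearMap.smul_apply, Module.End.one_apply, map_smul, smul_smul, smul_smul, smul_eq_mul]
        congr 1
        linear_combination (φ u * (Nat.card S : k)) * hab
      rw [Finset.sum_congr rfl h1, Finset.sum_const, ← Nat.cast_smul_eq_nsmul k, smul_smul, mul_assoc]
      congr 2
      rw [Nat.card_eq_fintype_card, Fintype.card_subtype]
    have hU'0 : ∃ u' ∈ U', u' ≠ 0 := by
      refine ⟨T u, ⟨u, hu, rfl⟩, fun h => hu0 ?_⟩
      have := LinearMap.congr_fun hTinv' u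
      rwa [Module.End.mul_apply, h, map_zero, Module.End.one_apply, eq_comm] at this
    obtain ⟨u', hu', hu'0⟩ := hU'0
    have h2 := hB u' hu'
    rw [hsum, LinearMap.smul_apply, Module.End.one_apply, smul_eq_zero] at h2
    refine h2.elim (fun h => ?_) hu'0
    have hZk : (Nat.card Z : k) ≠ 0 := fun h0 => hSk (by
      obtain ⟨c, hc⟩ := Subgroup.card_subgroup_dvd_card Z
      rw [hc, Nat.cast_mul, h0, zero_mul])
    exact hφ ((mul_eq_zero.1 h).resolve_left (mul_ne_zero hZk hSk))
  obtain ⟨F, hFL, hFU, u₀, hu₀, hFu₀⟩ := hinter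
  -- the induced twist of `U`
  let ψ₀ : Module.End k V := T ^ (P - 1) * F
  have hψU : ∀ x ∈ U, ψ₀ x ∈ U := by
    intro x _
    obtain ⟨y, hy, hyx⟩ := hFU x
    show (T ^ (P - 1)) (F x) ∈ U
    rw [← hyx, ← Module.End.mul_apply, hTinv', Module.End.one_apply]
    exact hy
  let ψ : Module.End k U := ψ₀.restrict hψU
  let LU : S →* Module.End k U :=
    { toFun := fun s => (L s).restrict fun x hx => hUL s ⟨x, hx, rfl⟩
      map_one' := LinearMap.ext fun x => Subtype.ext (by simp)
      map_mul' := fun a b => LinearMap.ext fun x => Subtype.ext (by simp) }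
  have hψL : ∀ s, ψ * LU s = LU ((σ ^ (P - 1)) s) * ψ := fun s => LinearMap.ext fun x => Subtype.ext (by
    show (T ^ (P - 1) * F * L s) x.1 = (L ((σ ^ (P - 1)) s) * (T ^ (P - 1) * F)) x.1
    rw [mul_assoc, ← hFL, ← mul_assoc, twist_pow hTL, mul_assoc])
  haveI : Nontrivial U := Submodule.nontrivial_iff_ne_bot.2 hU0
  have hUsimple : ∀ W : Submodule k U, (∀ s, W.map (LU s) ≤ W) → W = ⊥ ∨ W = ⊤ := by
    intro W hW
    have h1 : ∀ s, (W.map U.subtype).map (L s) ≤ W.map U.subtype := by
      rintro s _ ⟨_, ⟨x, hx, rfl⟩, rfl⟩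
      exact ⟨LU s x, hW s ⟨x, hx, rfl⟩, rfl⟩
    rcases hUmin' _ (Submodule.map_subtype_le U W) h1 with h | h
    · exact Or.inl (Submodule.map_injective_of_injective U.injective_subtype (h.trans (Submodule.map_bot U.subtype).symm))
    · exact Or.inr (Submodule.map_injective_of_injective U.injective_subtype
        (h.trans (Submodule.map_subtype_top U).symm))
  have hψinj : Function.Injective ψ := by
    rw [← LinearMap.ker_eq_bot]
    refine (hUsimple (LinearMap.ker ψ) fun s => ?_).resolve_right fun h => hFu₀ ?_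
    · rintro _ ⟨x, hx, rfl⟩
      rw [SetLike.mem_coe, LinearMap.mem_ker] at hx
      rw [LinearMap.mem_ker, ← Module.End.mul_apply, hψL, Module.End.mul_apply, hx, map_zero]
    · have h1 : (⟨u₀, hu₀⟩ : U) ∈ LinearMap.ker ψ := h ▸ Submodule.mem_top
      have h2 : (T ^ (P - 1)) (F u₀) = 0 := congrArg Subtype.val (LinearMap.mem_ker.1 h1)
      have := LinearMap.congr_fun hTinv (F u₀)
      rwa [Module.End.mul_apply, h2, map_zero, Module.End.one_apply, eq_comm] at this
  obtain ⟨a, ha⟩ := exists_scalar LU hUsimple (ψ ^ P) fun s => by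
    rw [twist_pow hψL, ← pow_mul, mul_comm (P - 1) P, pow_mul, hσ, one_pow, MulAut.one_apply]
  have ha0 : a ≠ 0 := by
    intro h0
    rw [h0, zero_smul] at ha
    obtain ⟨x, hx⟩ := exists_ne (0 : U)
    have hPinj : Function.Injective ⇑(ψ ^ P) := by rw [Module.End.coe_pow]; exact hψinj.iterate P
    refine hx (hPinj ?_)
    rw [map_zero, ha, LinearMap.zero_apply]
  obtain ⟨c, hc⟩ := IsAlgClosed.exists_pow_nat_eq a hP0
  have hc0 : c ≠ 0 := fun h => ha0 (by rw [← hc, h, zero_pow hP0.ne'])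
  let ψ' : Module.End k U := c⁻¹ • ψ
  have hψ'P : ψ' ^ P = 1 := by
    rw [smul_pow, ha, smul_smul, inv_pow, hc, inv_mul_cancel₀ ha0, one_smul]
  have hψ'L : ∀ s, ψ' * LU s = LU ((σ ^ (P - 1)) s) * ψ' := fun s => by
    rw [smul_mul_assoc, hψL, mul_smul_comm]
  -- equivariant maps
  let M : Submodule k (U →ₗ[k] V) :=
    { carrier := {g | ∀ s x, g (LU s x) = L s (g x)}
      add_mem' := fun {g g'} hg hg' s x => by simp [hg s x, hg' s x]
      zero_mem' := fun s x => by simp
      smul_mem' := fun b g hg s x => by simp [hg s x] }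
  let Θ₀ : Module.End k (U →ₗ[k] V) :=
    { toFun := fun g => T ∘ₗ g ∘ₗ ψ'
      map_add' := fun g g' => by simp [LinearMap.add_comp, LinearMap.comp_add]
      map_smul' := fun b g => by simp [LinearMap.smul_comp, LinearMap.comp_smul] }
  have hΘM : ∀ g ∈ M, Θ₀ g ∈ M := by
    intro g hg s x
    show T (g (ψ' (LU s x))) = L s (T (g (ψ' x)))
    rw [← Module.End.mul_apply ψ', hψ'L, Module.End.mul_apply, hg, ← Module.End.mul_apply, hTL, hσP,
      Module.End.mul_apply]
  let Θ : Module.End k M := Θ₀.restrict hΘM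
  have hΘi : ∀ (i : ℕ) (g : M), (((Θ ^ i) g : M) : U →ₗ[k] V) = (T ^ i) ∘ₗ (g : U →ₗ[k] V) ∘ₗ (ψ' ^ i) := by
    intro i
    induction i with
    | zero => intro g; simp [Module.End.one_eq_id]
    | succ i ih =>
      intro g
      refine LinearMap.ext fun x => ?_
      rw [pow_succ Θ, Module.End.mul_apply, ih]
      show (T ^ i) (T ((g : U →ₗ[k] V) (ψ' ((ψ' ^ i) x)))) = _
      rw [← Module.End.mul_apply (T ^ i), ← pow_succ, ← Module.End.mul_apply ψ', ← pow_succ']
      rfl
  have hM : (⟨U.subtype, fun s x => rfl⟩ : M) ≠ 0 := fun h => by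
    obtain ⟨x, hx⟩ := exists_ne (0 : U)
    exact hx (Subtype.ext (LinearMap.congr_fun (congrArg Subtype.val h) x))
  haveI : Nontrivial M := ⟨⟨_, _, hM⟩⟩
  obtain ⟨m, hm⟩ := Module.End.exists_eigenvalue Θ
  obtain ⟨g, hgm, hg0⟩ := hm.exists_hasEigenvector
  rw [Module.End.mem_eigenspace_iff] at hgm
  have hΘP : Θ ^ P = 1 := by
    refine LinearMap.ext fun g => Subtype.ext ?_
    rw [hΘi, hT, hψ'P]
    rfl
  have hm0 : m ≠ 0 := by
    intro h0
    rw [h0, zero_smul] at hgm
    refine hg0 ?_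
    have h1 := LinearMap.congr_fun hΘP g
    rwa [← Nat.sub_add_cancel hP0, pow_succ, Module.End.mul_apply, hgm, map_zero, Module.End.one_apply,
      eq_comm] at h1
  have hgeq : ∀ x, T ((g : U →ₗ[k] V) (ψ' x)) = m • (g : U →ₗ[k] V) x :=
    LinearMap.congr_fun (congrArg Subtype.val hgm)
  have hrange : LinearMap.range (g : U →ₗ[k] V) = ⊤ := by
    refine (hsimp _ ?_ fun s => ?_).resolve_left fun h => hg0 (Subtype.ext (LinearMap.range_eq_bot.1 h))
    · rintro _ ⟨_, ⟨x, rfl⟩, rfl⟩
      refine ⟨m • (ψ' ^ (P - 1)) x, ?_⟩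
      rw [map_smul, ← hgeq ((ψ' ^ (P - 1)) x), ← Module.End.mul_apply ψ', ← pow_succ', Nat.sub_add_cancel hP0,
        hψ'P, Module.End.one_apply]
    · rintro _ ⟨_, ⟨x, rfl⟩, rfl⟩
      exact ⟨LU s x, g.2 s x⟩
  intro W hW
  have hsurj : Function.Surjective (g : U →ₗ[k] V) := LinearMap.range_eq_top.1 hrange
  have hker : Submodule.comap (g : U →ₗ[k] V) ⊥ = ⊥ := by
    refine (hUsimple (Submodule.comap (g : U →ₗ[k] V) ⊥) fun s => ?_).resolve_right fun h' => hg0 ?_
    · rintro _ ⟨x, hx, rfl⟩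
      rw [SetLike.mem_coe, Submodule.mem_comap, Submodule.mem_bot] at hx
      rw [Submodule.mem_comap, Submodule.mem_bot, g.2 s x, hx, map_zero]
    · refine Subtype.ext (LinearMap.ext fun x => ?_)
      have h1 : x ∈ Submodule.comap (g : U →ₗ[k] V) ⊥ := h' ▸ Submodule.mem_top
      exact (Submodule.mem_bot k).1 h1
  have hWinv : ∀ s, (W.comap (g : U →ₗ[k] V)).map (LU s) ≤ W.comap (g : U →ₗ[k] V) := by
    rintro s _ ⟨x, hx, rfl⟩
    rw [Submodule.mem_comap, g.2 s x]
    exact hW s ⟨_, hx, rfl⟩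
  rcases hUsimple _ hWinv with h | h
  · exact Or.inl (Submodule.comap_injective_of_surjective hsurj (h.trans hker.symm))
  · exact Or.inr (Submodule.comap_injective_of_surjective hsurj
      (h.trans (Submodule.comap_top (g : U →ₗ[k] V)).symm))

end CfsgLib.FixedHalf
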